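import Groth.Prelude.Def_W4c1chowmix47Eta
import Mathlib.RingTheory.Ideal.MinimalPrime.Basic

/-! Elementary facts on the pointwise construction `η.N`, `η.M`, `η.rel`. -/

set_option autoImplicit false
universe u

namespace K798.EtaBase

open EtaPt

variable (η : EtaPt.FieldEndo.{u})

theorem Nmap_apply {A B : Type u} [CommRing A] [CommRing B] (f : A →+* B) (x : η.N A)
    (q : PrimeSpectrum B) :
    η.Nmap f x q =
      η.map (Ideal.ResidueField.map (PrimeSpectrum.comap f q).asIdeal q.asIdeal f rfl)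
        (x (PrimeSpectrum.comap f q)) := rfl

theorem t_apply {A : Type u} [CommRing A] (a : A) (p : PrimeSpectrum A) :
    η.t A a p = η.eta p.asIdeal.ResidueField (algebraMap A p.asIdeal.ResidueField a) := rfl

theorem map_comp_apply {K L E : Type u} [Field K] [Field L] [Field E] (f : K →+* L) (g : L →+* E)
    (x : η.obj K) : η.map (g.comp f) x = η.map g (η.map f x) := by
  rw [η.map_comp]; rfl

theorem residueField_map_comp {A B C : Type u} [CommRing A] [CommRing B] [CommRing C]
    (f : A →+* B) (g : B →+* C) (I : Ideal A) (J : Ideal B) (K : Ideal C) [I.IsPrime] [J.IsPrime]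
    [K.IsPrime] (hI : I = J.comap f) (hJ : J = K.comap g) (hK : I = K.comap (g.comp f)) :
    Ideal.ResidueField.map I K (g.comp f) hK =
      (Ideal.ResidueField.map J K g hJ).comp (Ideal.ResidueField.map I J f hI) := by
  ext x
  · simp

theorem Nmap_comp {A B C : Type u} [CommRing A] [CommRing B] [CommRing C]
    (f : A →+* B) (g : B →+* C) (x : η.N A) :
    η.Nmap (g.comp f) x = η.Nmap g (η.Nmap f x) := by
  funext q
  rw [Nmap_apply, Nmap_apply, Nmap_apply, ← map_comp_apply]
  congr 2
  exact residueField_map_comp f g _ _ _ rfl rfl rfl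

theorem Nmap_mem_M {A B : Type u} [CommRing A] [CommRing B] (f : A →+* B) {x : η.N A}
    (hx : x ∈ η.M A) : η.Nmap f x ∈ η.M B := by
  intro R _ _ _ hR g
  rw [← Nmap_comp]
  exact hx R hR (g.comp f)

theorem Nmap_injective {A B : Type u} [CommRing A] [CommRing B] (f : A →+* B)
    (hs : Function.Surjective (PrimeSpectrum.comap f)) : Function.Injective (η.Nmap f) := by
  intro x y hxy
  funext p
  obtain ⟨q, rfl⟩ := hs p
  exact (η.map (Ideal.ResidueField.map (PrimeSpectrum.comap f q).asIdeal q.asIdeal f rfl)).injective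
    (congrFun hxy q)

theorem Nmap_t {A B : Type u} [CommRing A] [CommRing B] (f : A →+* B) (a : A) :
    η.Nmap f (η.t A a) = η.t B (f a) := η.Nmap_t_apply f a

theorem mem_rel {A B : Type u} [CommRing A] [CommRing B] (f : A →+* B) (b : B) :
    b ∈ η.rel f ↔ ∃ x ∈ η.M A, η.Nmap f x = η.t B b := Iff.rfl

theorem t_eq_zero_iff {A : Type u} [CommRing A] (a : A) : η.t A a = 0 ↔ IsNilpotent a := by
  rw [← mem_nilradical, nilradical_eq_sInf, Ideal.mem_sInf]
  constructor
  · intro h p hp
    have hp' : p.IsPrime := hp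
    have := congrFun h ⟨p, hp'⟩
    rw [t_apply, Pi.zero_apply, map_eq_zero] at this
    exact (Ideal.algebraMap_residueField_eq_zero).1 this
  · intro h
    funext p
    rw [t_apply, Pi.zero_apply, map_eq_zero]
    exact (Ideal.algebraMap_residueField_eq_zero).2 (h p.2)

theorem coe_q {A : Type u} [CommRing A] (a : A) : ((η.q A a : η.M A) : η.N A) = η.t A a := rfl

theorem coe_qRel {A B : Type u} [CommRing A] [CommRing B] (f : A →+* B) (a : A) :
    ((η.qRel f a : η.rel f) : B) = f a := rfl

theorem qRel_bijective_iff {A B : Type u} [CommRing A] [CommRing B] (f : A →+* B) :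
    Function.Bijective (η.qRel f) ↔
      Function.Injective f ∧ ∀ b ∈ η.rel f, ∃ a, f a = b := by
  constructor
  · rintro ⟨h1, h2⟩
    refine ⟨fun a b hab => h1 (Subtype.ext hab), fun b hb => ?_⟩
    obtain ⟨a, ha⟩ := h2 ⟨b, hb⟩
    exact ⟨a, congrArg Subtype.val ha⟩
  · rintro ⟨h1, h2⟩
    refine ⟨fun a b hab => h1 (congrArg Subtype.val hab), fun b => ?_⟩
    obtain ⟨a, ha⟩ := h2 b.1 b.2
    exact ⟨a, Subtype.ext ha⟩

/-- functoriality of `rel` in squares -/
theorem map_mem_rel_of_square {A B A' B' : Type u} [CommRing A] [CommRing B] [CommRing A']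
    [CommRing B'] (j : A →+* B) (f : A →+* A') (g : B →+* B') (j' : A' →+* B')
    (hcomm : j'.comp f = g.comp j) {b : B} (hb : b ∈ η.rel j) : g b ∈ η.rel j' := by
  obtain ⟨x, hx, hxb⟩ := (mem_rel η j b).1 hb
  refine (mem_rel η j' _).2 ⟨η.Nmap f x, Nmap_mem_M η f hx, ?_⟩
  rw [← Nmap_comp, hcomm, Nmap_comp, hxb, Nmap_t]

end K798.EtaBase
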