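import Groth.Agent.EtaPt.K798.Base
import Mathlib.RingTheory.SurjectiveOnStalks
import Mathlib.RingTheory.Spectrum.Prime.Topology
import Mathlib.RingTheory.Localization.Away.Basic

/-! `η.N` and localization. -/

set_option autoImplicit false
universe u

namespace K798.EtaLoc

open EtaPt K798.EtaBase

variable (η : EtaPt.FieldEndo.{u})

theorem bijective_map_of_bijective {K L : Type u} [Field K] [Field L] (f : K →+* L)
    (hf : Function.Bijective f) : Function.Bijective (η.map f) := by
  let e := RingEquiv.ofBijective f hf
  have h1 : (e.symm : L →+* K).comp f = RingHom.id K := by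
    ext x; exact e.symm_apply_apply x
  refine ⟨(η.map f).injective, fun y => ⟨η.map (e.symm : L →+* K) y, ?_⟩⟩
  have h2 : f.comp (e.symm : L →+* K) = RingHom.id L := by
    ext x; exact e.apply_symm_apply x
  rw [← map_comp_apply, h2, η.map_id]
  rfl

theorem Nmap_surjective {A B : Type u} [CommRing A] [CommRing B] (f : A →+* B)
    (hi : Function.Injective (PrimeSpectrum.comap f))
    (hs : ∀ q : PrimeSpectrum B, Function.Surjective (η.map
      (Ideal.ResidueField.map (PrimeSpectrum.comap f q).asIdeal q.asIdeal f rfl))) :
    Function.Surjective (η.Nmap f) := by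
  intro y
  have key : ∀ p : PrimeSpectrum A, ∃ v : η.obj p.asIdeal.ResidueField,
      ∀ (q : PrimeSpectrum B) (hq : PrimeSpectrum.comap f q = p),
        η.map (Ideal.ResidueField.map p.asIdeal q.asIdeal f (by rw [← hq]; rfl)) v = y q := by
    intro p
    by_cases h : ∃ q, PrimeSpectrum.comap f q = p
    · obtain ⟨q, rfl⟩ := h
      obtain ⟨v, hv⟩ := hs q (y q)
      refine ⟨v, fun q' hq' => ?_⟩
      obtain rfl : q' = q := hi hq'
      exact hv
    · exact ⟨0, fun q hq => (h ⟨q, hq⟩).elim⟩
  choose v hv using key
  exact ⟨v, funext fun q => hv _ q rfl⟩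

theorem bijective_map_residueField_of_surjectiveOnStalks {A B : Type u} [CommRing A] [CommRing B]
    (f : A →+* B) (hf : f.SurjectiveOnStalks) (q : PrimeSpectrum B) :
    Function.Bijective (η.map
      (Ideal.ResidueField.map (PrimeSpectrum.comap f q).asIdeal q.asIdeal f rfl)) :=
  bijective_map_of_bijective η _ (hf.residueFieldMap_bijective _ _ rfl)

theorem Nmap_away_surjective {A : Type u} [CommRing A] (f : A) (B : Type u) [CommRing B]
    [Algebra A B] [IsLocalization.Away f B] : Function.Surjective (η.Nmap (algebraMap A B)) := by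
  refine Nmap_surjective η _ (PrimeSpectrum.localization_comap_injective B (Submonoid.powers f))
    fun q => (bijective_map_residueField_of_surjectiveOnStalks η _
      (RingHom.surjectiveOnStalks_of_isLocalization (Submonoid.powers f) B) q).2

/-- Two elements of `η.N A` with the same image in `η.N A_f` become equal after multiplication
by `t f`. -/
theorem t_mul_eq_of_Nmap_eq {A : Type u} [CommRing A] (f : A) (B : Type u) [CommRing B]
    [Algebra A B] [IsLocalization.Away f B] (x y : η.N A)
    (h : η.Nmap (algebraMap A B) x = η.Nmap (algebraMap A B) y) :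
    η.t A f * x = η.t A f * y := by
  funext p
  rw [Pi.mul_apply, Pi.mul_apply]
  by_cases hp : f ∈ p.asIdeal
  · rw [t_apply, Ideal.algebraMap_residueField_eq_zero.2 hp, map_zero, zero_mul, zero_mul]
  · have hp' : p ∈ Set.range (PrimeSpectrum.comap (algebraMap A B)) := by
      rw [PrimeSpectrum.localization_away_comap_range B f]
      exact hp
    obtain ⟨q, rfl⟩ := hp'
    congr 1
    exact (η.map (Ideal.ResidueField.map _ q.asIdeal (algebraMap A B) rfl)).injective (congrFun h q)

end K798.EtaLoc
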