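import Groth.Agent.EtaPt.K798.Val
import Mathlib.RingTheory.IntegralClosure.IntegrallyClosed
import Mathlib.Algebra.GCDMonoid.IntegrallyClosed
import Mathlib.RingTheory.PrincipalIdealDomain

/-! `η.M` and localization at one element. -/

set_option autoImplicit false
universe u

namespace K798.EtaMAway

open EtaPt K798.EtaBase K798.EtaLoc K798.EtaVal

variable (η : EtaPt.FieldEndo.{u})

theorem awayMap_comp_algebraMap {A R : Type u} [CommRing A] [CommRing R] (g : A →+* R) (f : A) :
    (Localization.awayMap g f).comp (algebraMap A (Localization.Away f)) =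
      (algebraMap R (Localization.Away (g f))).comp g := by
  unfold Localization.awayMap IsLocalization.Away.map
  exact IsLocalization.map_comp _

theorem isIntegrallyClosed_of_valuationRing (R : Type u) [CommRing R] [IsDomain R]
    [ValuationRing R] : IsIntegrallyClosed R := by
  classical
  have := IsBezout.toGCDDomain R
  exact GCDMonoid.toIsIntegrallyClosed

theorem exists_algebraMap_eq_of_isIntegral_away {R : Type u} [CommRing R] [IsDomain R]
    [IsIntegrallyClosed R] (f : R) (hf : f ≠ 0) (x : Localization.Away f)
    (hx : IsIntegral R x) : ∃ r : R, algebraMap R (Localization.Away f) r = x := by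
  have hle : Submonoid.powers f ≤ nonZeroDivisors R :=
    powers_le_nonZeroDivisors_of_noZeroDivisors hf
  let φ : Localization.Away f →+* FractionRing R :=
    IsLocalization.lift (M := Submonoid.powers f) (S := Localization.Away f)
      (g := algebraMap R (FractionRing R)) (fun y => IsLocalization.map_units (FractionRing R)
        (⟨y.1, hle y.2⟩ : nonZeroDivisors R))
  have hφ : ∀ r : R, φ (algebraMap R _ r) = algebraMap R (FractionRing R) r := fun r =>
    IsLocalization.lift_eq (M := Submonoid.powers f) (S := Localization.Away f) _ r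
  have h1 : IsIntegral R (φ x) := by
    obtain ⟨P, hP, hP'⟩ := hx
    refine ⟨P, hP, ?_⟩
    have h2 : φ.comp (algebraMap R (Localization.Away f)) = algebraMap R (FractionRing R) := by
      ext r; exact hφ r
    rw [← h2, ← Polynomial.hom_eval₂, hP', map_zero]
  obtain ⟨r, hr⟩ := IsIntegrallyClosed.algebraMap_eq_of_integral h1
  refine ⟨r, ?_⟩
  obtain ⟨⟨a, s⟩, hs⟩ := IsLocalization.surj (Submonoid.powers f) x
  simp only at hs
  have hsu : IsUnit (algebraMap R (Localization.Away f) s) := IsLocalization.map_units _ s
  apply hsu.mul_right_cancel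
  rw [hs, ← map_mul]
  congr 1
  apply IsFractionRing.injective R (FractionRing R)
  rw [map_mul, hr, ← hφ s.1, ← map_mul, hs, hφ]

theorem exists_mem_M_of_away {A : Type u} [CommRing A] (f : A)
    (hint : (η.q (Localization.Away f)).IsIntegral) (y : η.N (Localization.Away f))
    (hy : y ∈ η.M (Localization.Away f)) : ∃ x ∈ η.M A, ∃ n : ℕ,
      y * η.t (Localization.Away f) (algebraMap A (Localization.Away f) f) ^ n =
        η.Nmap (algebraMap A (Localization.Away f)) x := by
  let B := Localization.Away f
  -- clear denominators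
  have h1 : ∃ (n : ℕ) (P : Polynomial A), P.Monic ∧
      P.eval₂ ((η.t B).comp (algebraMap A B)) (η.t B (algebraMap A B f) ^ n * y) = 0 := by
    let _ : Algebra B (η.M B) := (η.q B).toAlgebra
    let _ : Algebra A (η.M B) := ((η.q B).comp (algebraMap A B)).toAlgebra
    have : IsScalarTower A B (η.M B) := IsScalarTower.of_algebraMap_eq' rfl
    have h2 : IsIntegral B (⟨y, hy⟩ : η.M B) := hint _
    obtain ⟨⟨m, n, hn⟩, hm⟩ := IsIntegral.exists_multiple_integral_of_isLocalization
      (Submonoid.powers f) _ h2
    obtain ⟨P, hP, hP'⟩ := hm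
    refine ⟨n, P, hP, ?_⟩
    have h3 := congrArg (η.M B).subtype hP'
    rw [Polynomial.hom_eval₂, map_zero] at h3
    have h4 : (η.M B).subtype.comp (algebraMap A (η.M B)) = (η.t B).comp (algebraMap A B) := rfl
    rw [h4] at h3
    convert h3 using 2
    change _ = ((m • (⟨y, hy⟩ : η.M B) : η.M B) : η.N B)
    rw [Algebra.smul_def]
    change _ = η.t B (algebraMap A B m) * y
    obtain rfl : f ^ n = m := hn
    rw [map_pow, map_pow]
  obtain ⟨n, P, hP, hP'⟩ := h1
  set z := η.t B (algebraMap A B f) ^ n * y with hz
  have hzM : z ∈ η.M B := Subring.mul_mem _ (Subring.pow_mem _ (η.t_mem_M B _) n) hy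
  obtain ⟨x0, hx0⟩ := Nmap_away_surjective η f B z
  refine ⟨η.t A f * x0, ?_, n + 1, ?_⟩
  · intro R _ _ _ hR g
    rw [map_mul, Nmap_t]
    by_cases hgf : g f = 0
    · rw [hgf, map_zero, zero_mul]
      exact Subring.zero_mem _
    · have := isIntegrallyClosed_of_valuationRing R
      have := isDomain_away (g f) hgf
      have := valuationRing_of_isLocalization (Submonoid.powers (g f)) (Localization.Away (g f))
      have hR' := inV_away η (g f) hgf hR
      let g' : B →+* Localization.Away (g f) := Localization.awayMap g f
      have hg' : g'.comp (algebraMap A B) = (algebraMap R (Localization.Away (g f))).comp g :=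
        awayMap_comp_algebraMap g f
      obtain ⟨r', hr'⟩ := hzM (Localization.Away (g f)) hR' g'
      -- `r'` is integral over `R`
      have h5 : IsIntegral R r' := by
        refine ⟨P.map g, hP.map g, ?_⟩
        rw [Polynomial.eval₂_map, ← hg']
        have h6 : η.t (Localization.Away (g f))
            (P.eval₂ (g'.comp (algebraMap A B)) r') = 0 := by
          rw [Polynomial.hom_eval₂, hr']
          have h7 : (η.t (Localization.Away (g f))).comp (g'.comp (algebraMap A B)) =
              (η.Nmap g').comp ((η.t B).comp (algebraMap A B)) := by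
            ext1 a
            exact (Nmap_t η g' _).symm
          rw [h7, ← Polynomial.hom_eval₂, hP', map_zero]
        exact ((t_eq_zero_iff η _).1 h6).eq_zero
      obtain ⟨r, hr⟩ := exists_algebraMap_eq_of_isIntegral_away (g f) hgf r' h5
      have h8 : η.t R (g f) * η.Nmap g x0 = η.t R (g f) * η.t R r := by
        refine t_mul_eq_of_Nmap_eq η (g f) (Localization.Away (g f)) _ _ ?_
        rw [← Nmap_comp, ← hg', Nmap_comp, hx0, Nmap_t, hr]
        exact hr'.symm
      rw [h8, ← map_mul]
      exact ⟨_, rfl⟩
  · rw [map_mul, hx0, Nmap_t, hz, pow_succ]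
    ring

end K798.EtaMAway
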