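import Groth.Agent.EtaPt.K798.Val
import Groth.Agent.Ega4C.NormalRing
import Mathlib.RingTheory.LocalProperties.IntegrallyClosed
import Mathlib.RingTheory.Ideal.Quotient.Operations
import Mathlib.RingTheory.Localization.Ideal

/-! Normal rings with finitely many minimal primes. -/

set_option autoImplicit false
universe u

namespace K798.EtaNormal

open EtaPt K798.EtaBase K798.EtaLoc K798.EtaVal

variable (η : EtaPt.FieldEndo.{u})

/-- If `A_m` is a domain and `p ≤ m` is a minimal prime, then `p` is the kernel of `A → A_m`. -/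
theorem mem_iff_of_isDomain {A : Type u} [CommRing A] (m : Ideal A) [m.IsPrime]
    [IsDomain (Localization.AtPrime m)] (p : Ideal A) (hp : p ∈ minimalPrimes A) (hpm : p ≤ m)
    (a : A) : a ∈ p ↔ algebraMap A (Localization.AtPrime m) a = 0 := by
  have hpp : p.IsPrime := hp.1.1
  have h1 : RingHom.ker (algebraMap A (Localization.AtPrime m)) ≤ p := by
    intro a ha
    obtain ⟨t, ht⟩ := (IsLocalization.map_eq_zero_iff m.primeCompl _ a).1 ha
    exact (hpp.mem_or_mem (x := t.1) (y := a) (by rw [ht]; exact p.zero_mem)).resolve_left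
      (fun h => t.2 (hpm h))
  have h2 := hp.2 ⟨RingHom.ker_isPrime (algebraMap A (Localization.AtPrime m)), bot_le⟩ h1
  exact ⟨fun h => h2 h, fun h => h1 h⟩

theorem isCoprime_of_isNormalRing {A : Type u} [CommRing A] (hn : EGA4.IsNormalRing A)
    (p p' : Ideal A) (hp : p ∈ minimalPrimes A) (hp' : p' ∈ minimalPrimes A) (h : p ≠ p') :
    IsCoprime p p' := by
  rw [Ideal.isCoprime_iff_sup_eq]
  by_contra hne
  obtain ⟨m, hm, hle⟩ := Ideal.exists_le_maximal _ hne
  have : m.IsPrime := hm.isPrime
  have := (hn m).1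
  apply h
  ext a
  rw [mem_iff_of_isDomain m p hp (le_sup_left.trans hle),
    mem_iff_of_isDomain m p' hp' (le_sup_right.trans hle)]

theorem isIntegrallyClosed_quotient {A : Type u} [CommRing A] (hn : EGA4.IsNormalRing A)
    (p : Ideal A) (hp : p ∈ minimalPrimes A) [p.IsPrime] : IsIntegrallyClosed (A ⧸ p) := by
  refine IsIntegrallyClosed.of_localization_maximal fun M _ hM => ?_
  have hMp : M.IsPrime := hM.isPrime
  let m := M.comap (Ideal.Quotient.mk p)
  have hmp : m.IsPrime := inferInstance
  have hpm : p ≤ m := by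
    intro a ha
    change Ideal.Quotient.mk p a ∈ M
    rw [Ideal.Quotient.eq_zero_iff_mem.2 ha]
    exact M.zero_mem
  obtain ⟨hd, hic⟩ := hn m
  have hker := mem_iff_of_isDomain m p hp hpm
  let _ : Algebra (A ⧸ p) (Localization.AtPrime m) :=
    (Ideal.Quotient.lift p (algebraMap A (Localization.AtPrime m))
      (fun a ha => (hker a).1 ha)).toAlgebra
  have h1 : IsLocalization (m.primeCompl.map (Ideal.Quotient.mk p)) (Localization.AtPrime m) := by
    refine IsLocalization.of_surjective m.primeCompl (Localization.AtPrime m) (Ideal.Quotient.mk p)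
      Ideal.Quotient.mk_surjective (RingHom.id (Localization.AtPrime m)) Function.surjective_id
      rfl ?_
    intro x hx
    have hx' : x = 0 := hx
    rw [hx']
    exact Submodule.zero_mem _
  have h2 : m.primeCompl.map (Ideal.Quotient.mk p) = M.primeCompl := by
    ext x
    constructor
    · rintro ⟨a, ha, rfl⟩
      exact ha
    · intro hx
      obtain ⟨a, rfl⟩ := Ideal.Quotient.mk_surjective x
      exact ⟨a, hx, rfl⟩
  rw [h2] at h1
  have h3 : IsLocalization.AtPrime (Localization.AtPrime m) M := h1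
  exact IsIntegrallyClosed.of_equiv
    (IsLocalization.algEquiv M.primeCompl (Localization.AtPrime m)
      (Localization.AtPrime M)).toRingEquiv

theorem bijective_q_of_isNormalRing (A : Type u) [CommRing A] (hn : EGA4.IsNormalRing A)
    (hA : (minimalPrimes A).Finite)
    (hη : ∀ p : PrimeSpectrum A, p.asIdeal ∈ minimalPrimes A →
      Function.Bijective (η.eta p.asIdeal.ResidueField))
    (H : ∀ (D : Type u) [CommRing D] [IsDomain D] [IsIntegrallyClosed D], η.InV D →
      Function.Bijective (η.q D)) : Function.Bijective (η.q A) := by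
  have hred := Groth.Agent.Ega4C.NormalRing.isReduced_of_isNormalRing A hn
  constructor
  · rw [injective_iff_map_eq_zero]
    intro a ha
    exact ((t_eq_zero_iff η a).1 (congrArg Subtype.val ha)).eq_zero
  · rintro ⟨x, hx⟩
    have : Finite (minimalPrimes A) := hA
    have h1 : ∀ p : minimalPrimes A, ∃ a : A,
        η.Nmap (Ideal.Quotient.mk p.1) x = η.t (A ⧸ p.1) (Ideal.Quotient.mk p.1 a) := by
      intro p
      have hp : p.1.IsPrime := p.2.1.1
      have := isIntegrallyClosed_quotient hn p.1 p.2
      have hV : η.InV (A ⧸ p.1) := (inV_iff η (A ⧸ p.1) p.1.ResidueField).2 (hη ⟨p.1, hp⟩ p.2)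
      obtain ⟨d, hd⟩ := (H (A ⧸ p.1) hV).2 ⟨_, Nmap_mem_M η (Ideal.Quotient.mk p.1) hx⟩
      obtain ⟨a, rfl⟩ := Ideal.Quotient.mk_surjective d
      exact ⟨a, (congrArg Subtype.val hd).symm⟩
    choose a ha using h1
    obtain ⟨r, hr⟩ := Ideal.exists_forall_sub_mem_ideal (I := fun p : minimalPrimes A => p.1)
      (fun p p' h => isCoprime_of_isNormalRing hn p.1 p'.1 p.2 p'.2
        (fun h' => h (Subtype.ext h'))) a
    refine ⟨r, Subtype.ext ?_⟩
    rw [coe_q]
    funext P
    obtain ⟨p, hp, hpP⟩ := Ideal.exists_minimalPrimes_le (I := (⊥ : Ideal A)) (J := P.asIdeal) bot_le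
    have hpp : p.IsPrime := hp.1.1
    -- the prime of `A ⧸ p` corresponding to `P`
    have hPr : P ∈ Set.range (PrimeSpectrum.comap (Ideal.Quotient.mk p)) := by
      rw [range_comap_of_surjective _ _ Ideal.Quotient.mk_surjective,
        Ideal.mk_ker]
      exact hpP
    obtain ⟨Q, rfl⟩ := hPr
    apply (η.map (Ideal.ResidueField.map _ Q.asIdeal (Ideal.Quotient.mk p) rfl)).injective
    have h2 : η.Nmap (Ideal.Quotient.mk p) (η.t A r) = η.Nmap (Ideal.Quotient.mk p) x := by
      rw [ha ⟨p, hp⟩, Nmap_t]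
      congr 1
      rw [Ideal.Quotient.eq]
      exact hr ⟨p, hp⟩
    exact congrFun h2 Q

end K798.EtaNormal
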