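import Groth.Agent.EtaPt.K797.Fin

/-! `(B/A)_η`: residue fields, bijectivity of `N_η(q_{B/A})`, integral closure. -/

set_option autoImplicit false
universe u
open EtaPt K797.EtaBase K797.EtaVal K797.EtaNbij K797.EtaDom K797.EtaIntCl K797.EtaFin

namespace K798.EtaRel

variable (η : FieldEndo.{u})

/-- The residue field factorisation from a map to `F(k(P))`. -/
theorem exists_factor_of_hom {A B : Type u} [CommRing A] [CommRing B] (g : A →+* B)
    (Q : PrimeSpectrum B)
    (ψ : B →+* η.obj (PrimeSpectrum.comap g Q).asIdeal.ResidueField)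
    (h : ψ.comp g = phi η (PrimeSpectrum.comap g Q)) (hQ : ∀ b, b ∈ Q.asIdeal ↔ ψ b = 0) :
    ∃ φ : Q.asIdeal.ResidueField →+* η.obj (PrimeSpectrum.comap g Q).asIdeal.ResidueField,
      (∀ b : B, φ (algebraMap B _ b) = ψ b) ∧
      φ.comp (Ideal.ResidueField.map (PrimeSpectrum.comap g Q).asIdeal Q.asIdeal g rfl) =
        η.eta (PrimeSpectrum.comap g Q).asIdeal.ResidueField := by
  let φ : Q.asIdeal.ResidueField →+* η.obj (PrimeSpectrum.comap g Q).asIdeal.ResidueField :=
    Ideal.ResidueField.lift Q.asIdeal ψ (fun x hx => (hQ x).mp hx)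
      (fun x hx => isUnit_iff_ne_zero.mpr fun h => hx ((hQ x).mpr h))
  have hφ : ∀ x : B, φ (algebraMap B _ x) = ψ x := fun x =>
    Ideal.ResidueField.lift_algebraMap _ _ _ _ _
  refine ⟨φ, hφ, ?_⟩
  apply Ideal.ResidueField.ringHom_ext
  ext a
  exact ((congrArg φ (Ideal.ResidueField.map_algebraMap _ _ _ _ _)).trans (hφ (g a))).trans
    (congrArg (fun h => h a) h)

/-- `N_η(g)` is bijective if `Spec g` is and the residue field extensions factor `η`. -/
theorem bijective_Nmap_of_factor {A B : Type u} [CommRing A] [CommRing B] (g : A →+* B)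
    (hc : Function.Bijective (PrimeSpectrum.comap g))
    (hf : ∀ Q : PrimeSpectrum B,
      ∃ φ : Q.asIdeal.ResidueField →+* η.obj (PrimeSpectrum.comap g Q).asIdeal.ResidueField,
        φ.comp (Ideal.ResidueField.map (PrimeSpectrum.comap g Q).asIdeal Q.asIdeal g rfl) =
          η.eta (PrimeSpectrum.comap g Q).asIdeal.ResidueField) :
    Function.Bijective (η.Nmap g) := by
  rw [bijective_Nmap_iff]
  refine ⟨hc, fun Q => ⟨RingHom.injective _, fun y => ?_⟩⟩
  obtain ⟨φ, hφ⟩ := hf Q
  obtain ⟨z, hz⟩ := (η.bijective_map_eta (PrimeSpectrum.comap g Q).asIdeal.ResidueField).2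
    (η.map φ y)
  refine ⟨z, (η.map φ).injective ?_⟩
  rw [← map_comp_apply, hφ, hz]

variable {A B : Type u} [CommRing A] [CommRing B]

/-- A prime of a ring `C` with maps `A → C → M A` composing to `q` is the kernel of an
evaluation, if `Spec C → Spec A` is injective. -/
theorem mem_iff_of_comp {C : Type u} [CommRing C] (g : A →+* C) (s : C →+* η.M A)
    (hs : s.comp g = η.q A) (hc : Function.Injective (PrimeSpectrum.comap g))
    (Q : PrimeSpectrum C) (x : C) :
    x ∈ Q.asIdeal ↔ (s x).1 (PrimeSpectrum.comap g Q) = 0 := by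
  have h1 : PrimeSpectrum.comap s (pt (evM η (PrimeSpectrum.comap g Q))) = Q := by
    apply hc
    have h2 : PrimeSpectrum.comap g (PrimeSpectrum.comap s
        (pt (evM η (PrimeSpectrum.comap g Q)))) =
        PrimeSpectrum.comap (η.q A) (pt (evM η (PrimeSpectrum.comap g Q))) := by
      rw [← hs]; rfl
    rw [h2, comap_q_pt_evM]
  conv_lhs => rw [← h1]
  exact mem_pt_evM η _ _

theorem exists_factor_of_comp {C : Type u} [CommRing C] (g : A →+* C) (s : C →+* η.M A)
    (hs : s.comp g = η.q A) (hc : Function.Injective (PrimeSpectrum.comap g))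
    (Q : PrimeSpectrum C) :
    ∃ φ : Q.asIdeal.ResidueField →+* η.obj (PrimeSpectrum.comap g Q).asIdeal.ResidueField,
      (∀ x : C, φ (algebraMap C _ x) = (s x).1 (PrimeSpectrum.comap g Q)) ∧
      φ.comp (Ideal.ResidueField.map (PrimeSpectrum.comap g Q).asIdeal Q.asIdeal g rfl) =
        η.eta (PrimeSpectrum.comap g Q).asIdeal.ResidueField :=
  exists_factor_of_hom η g Q ((evM η (PrimeSpectrum.comap g Q)).comp s)
    (by rw [RingHom.comp_assoc, hs, evM_comp_q]) (mem_iff_of_comp η g s hs hc Q)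

/-- S13818 -/
theorem qRel_residue_factor_and_bijective_Nmap (hA : (minimalPrimes A).Finite)
    (f : A →+* B) (hs : Function.Surjective (PrimeSpectrum.comap f)) :
    (∀ Q : PrimeSpectrum (η.rel f),
        ∃ φ : Q.asIdeal.ResidueField →+*
            η.obj (PrimeSpectrum.comap (η.qRel f) Q).asIdeal.ResidueField,
          φ.comp (Ideal.ResidueField.map (PrimeSpectrum.comap (η.qRel f) Q).asIdeal
            Q.asIdeal (η.qRel f) rfl) =
            η.eta (PrimeSpectrum.comap (η.qRel f) Q).asIdeal.ResidueField) ∧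
      Function.Bijective (η.Nmap (η.qRel f)) := by
  obtain ⟨s, -, hs2⟩ := exists_relToM η f hs
  obtain ⟨-, hc⟩ := isIntegral_qRel_and_comap_bijective η f hA hs
  have h : ∀ Q : PrimeSpectrum (η.rel f),
        ∃ φ : Q.asIdeal.ResidueField →+*
            η.obj (PrimeSpectrum.comap (η.qRel f) Q).asIdeal.ResidueField,
          φ.comp (Ideal.ResidueField.map (PrimeSpectrum.comap (η.qRel f) Q).asIdeal
            Q.asIdeal (η.qRel f) rfl) =
            η.eta (PrimeSpectrum.comap (η.qRel f) Q).asIdeal.ResidueField := fun Q => by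
    obtain ⟨φ, -, hφ⟩ := exists_factor_of_comp η (η.qRel f) s hs2 hc.1 Q
    exact ⟨φ, hφ⟩
  exact ⟨h, bijective_Nmap_of_factor η _ hc h⟩

/-- S13819 -/
theorem range_le_rel {B' : Type u} [CommRing B'] (f₁ : A →+* B') (f₂ : B' →+* B)
    (h₁ : f₁.IsIntegral) (hN : Function.Bijective (η.Nmap f₁)) :
    f₂.range ≤ η.rel (f₂.comp f₁) := by
  rintro _ ⟨b', rfl⟩
  obtain ⟨x, hx, hxb⟩ := (bijOn_Nmap_M η f₁ h₁ hN).surjOn (η.t_mem_M B' b')
  rw [mem_rel_iff]
  exact ⟨x, hx, by rw [Nmap_comp, hxb, η.Nmap_t_apply]⟩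

/-- S13820: `(C/A)_η = (B/A)_η` when `C ⊆ B` contains `(B/A)_η`. -/
theorem map_rel_eq {C : Type u} [CommRing C] (hA : (minimalPrimes A).Finite) (f : A →+* C)
    (g : C →+* B) (hs : Function.Surjective (PrimeSpectrum.comap (g.comp f)))
    (hle : η.rel (g.comp f) ≤ g.range) (hg : Function.Injective g) :
    (η.rel f).map g = η.rel (g.comp f) := by
  apply le_antisymm
  · rintro _ ⟨c, hc, rfl⟩
    obtain ⟨x, hx, hxc⟩ := (mem_rel_iff η f c).1 hc
    exact (mem_rel_iff η _ _).2 ⟨x, hx, by rw [Nmap_comp, hxc, η.Nmap_t_apply]⟩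
  · intro b hb
    obtain ⟨c, rfl⟩ := hle hb
    refine ⟨c, ?_, rfl⟩
    -- the ring `(B/A)_η` maps to `C`
    obtain ⟨s, hs1, hs2⟩ := exists_relToM η (g.comp f) hs
    have hmem : ∀ y : η.rel (g.comp f), ∃ c : C, g c = y.1 := fun y => hle y.2
    choose i hi using hmem
    let i' : η.rel (g.comp f) →+* C :=
      { toFun := i
        map_one' := hg (by rw [hi, map_one]; rfl)
        map_zero' := hg (by rw [hi, map_zero]; rfl)
        map_mul' := fun a b => hg (by rw [hi, map_mul, hi, hi]; rfl)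
        map_add' := fun a b => hg (by rw [hi, map_add, hi, hi]; rfl) }
    have hi' : ∀ y, g (i' y) = y.1 := hi
    have hN := (qRel_residue_factor_and_bijective_Nmap η hA (g.comp f) hs).2
    have hif : i'.comp (η.qRel (g.comp f)) = f := by
      ext a
      exact hg (hi' _)
    have hcy : i' ⟨g c, hb⟩ = c := hg (hi' _)
    refine (mem_rel_iff η f c).2 ⟨(s ⟨g c, hb⟩).1, (s ⟨g c, hb⟩).2, ?_⟩
    refine ev_ext η fun Q => ?_
    rw [ev_Nmap, ev_t]
    -- two maps out of `(B/A)_η`
    let κ := algebraMap C Q.asIdeal.ResidueField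
    let γ₁ : η.rel (g.comp f) →+* η.obj Q.asIdeal.ResidueField :=
      (ev η (κ.comp f)).comp ((η.M A).subtype.comp s)
    let γ₂ : η.rel (g.comp f) →+* η.obj Q.asIdeal.ResidueField :=
      ((η.eta Q.asIdeal.ResidueField).comp κ).comp i'
    have h12 : γ₁ = γ₂ := by
      refine hom_ext_of_bijective_Nmap η (η.qRel (g.comp f)) hN γ₁ γ₂ ?_
      ext1 a
      have h1 : s (η.qRel (g.comp f) a) = η.q A a := congrArg (fun h => h a) hs2
      have h2 : i' (η.qRel (g.comp f) a) = f a := congrArg (fun h => h a) hif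
      change ev η (κ.comp f) (s (η.qRel (g.comp f) a)).1 = η.eta _ (κ (i' (η.qRel (g.comp f) a)))
      rw [h1, h2, q_coe, ev_t]
      rfl
    have h3 := congrArg (fun h => h ⟨g c, hb⟩) h12
    change ev η (κ.comp f) (s ⟨g c, hb⟩).1 = η.eta _ (κ (i' ⟨g c, hb⟩)) at h3
    rw [h3, hcy]

/-- `M_η(f)` and `f`: integrality. -/
theorem isIntegral_iff (hA : (minimalPrimes A).Finite) (hB : (minimalPrimes B).Finite)
    (f : A →+* B) (g : η.M A →+* η.M B) (hg : g.comp (η.q A) = (η.q B).comp f) :
    f.IsIntegral ↔ g.IsIntegral := by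
  constructor
  · intro hf
    refine RingHom.IsIntegral.tower_top (η.q A) g ?_
    rw [hg]
    exact RingHom.IsIntegral.trans _ _ hf (isIntegral_q η hB)
  · intro hgi
    have h1 : (g.comp (η.q A)).IsIntegral := RingHom.IsIntegral.trans _ _ (isIntegral_q η hA) hgi
    rw [hg] at h1
    intro b
    obtain ⟨P, hP, hP0⟩ := h1 (η.q B b)
    rw [← Polynomial.hom_eval₂] at hP0
    have h2 : η.t B (P.eval₂ f b) = 0 := congrArg Subtype.val hP0
    rw [t_eq_zero_iff] at h2
    obtain ⟨n, hn⟩ := h2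
    exact ⟨P ^ n, hP.pow n, by rw [Polynomial.eval₂_pow, hn]⟩

/-- `M_η(f)` and `f`: the square of spectra. -/
theorem comap_comm (f : A →+* B) (g : η.M A →+* η.M B) (hg : g.comp (η.q A) = (η.q B).comp f) :
    PrimeSpectrum.comap (η.q A) ∘ PrimeSpectrum.comap g =
      PrimeSpectrum.comap f ∘ PrimeSpectrum.comap (η.q B) := by
  funext Q
  have h1 : PrimeSpectrum.comap (g.comp (η.q A)) Q = PrimeSpectrum.comap ((η.q B).comp f) Q := by
    rw [hg]
  exact h1

theorem surjective_iff (hA : (minimalPrimes A).Finite) (hB : (minimalPrimes B).Finite)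
    (f : A →+* B) (g : η.M A →+* η.M B) (hg : g.comp (η.q A) = (η.q B).comp f) :
    Function.Surjective (PrimeSpectrum.comap f) ↔ Function.Surjective (PrimeSpectrum.comap g) := by
  have h := comap_comm η f g hg
  have h1 := comap_q_bijective η hA
  have h2 := comap_q_bijective η hB
  constructor
  · intro hf Q
    obtain ⟨R, hR⟩ := (hf.comp h2.2) (PrimeSpectrum.comap (η.q A) Q)
    refine ⟨R, h1.1 ?_⟩
    rw [← hR]
    exact congrFun h R
  · intro hgs P
    obtain ⟨Q, rfl⟩ := (h1.2.comp hgs) P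
    refine ⟨PrimeSpectrum.comap (η.q B) Q, ?_⟩
    exact (congrFun h Q).symm

theorem bijective_comap_of_bijective (hA : (minimalPrimes A).Finite)
    (hB : (minimalPrimes B).Finite)
    (f : A →+* B) (g : η.M A →+* η.M B) (hg : g.comp (η.q A) = (η.q B).comp f)
    (hb : Function.Bijective g) : Function.Bijective (PrimeSpectrum.comap f) := by
  have h := comap_comm η f g hg
  have h1 := comap_q_bijective η hA
  have h2 := comap_q_bijective η hB
  have h3 : Function.Bijective (PrimeSpectrum.comap g) :=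
    (PrimeSpectrum.comapEquiv (RingEquiv.ofBijective g hb)).symm.bijective
  refine (Function.Bijective.of_comp_iff (PrimeSpectrum.comap f) h2).1 ?_
  rw [← h]
  exact h1.comp h3

end K798.EtaRel
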