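import Groth.Agent.EtaPt.K798.MAway
import Mathlib.RingTheory.Ideal.MinimalPrime.Localization

/-! `η.rel` and localization at one element. -/

set_option autoImplicit false
universe u

namespace K798.EtaRelAway

open EtaPt K798.EtaBase K798.EtaLoc K798.EtaVal K798.EtaMAway

variable (η : EtaPt.FieldEndo.{u})

theorem finite_minimalPrimes_away {A : Type u} [CommRing A] (hA : (minimalPrimes A).Finite)
    (f : A) : (minimalPrimes (Localization.Away f)).Finite := by
  have h1 := IsLocalization.minimalPrimes_map (Submonoid.powers f) (Localization.Away f)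
    (⊥ : Ideal A)
  rw [Ideal.map_bot] at h1
  change minimalPrimes (Localization.Away f) = _ at h1
  have h2 : Set.InjOn (Ideal.under A) (minimalPrimes (Localization.Away f)) := by
    intro p hp q hq hpq
    have hp' : p.IsPrime := hp.1.1
    have hq' : q.IsPrime := hq.1.1
    have := PrimeSpectrum.localization_comap_injective (Localization.Away f) (Submonoid.powers f)
      (a₁ := ⟨p, hp'⟩) (a₂ := ⟨q, hq'⟩) (PrimeSpectrum.ext hpq)
    exact congrArg PrimeSpectrum.asIdeal this
  refine Set.Finite.of_finite_image (f := Ideal.under A) (hA.subset ?_) h2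
  rintro _ ⟨p, hp, rfl⟩
  rw [h1] at hp
  exact hp

/-- The square of localizations. -/
theorem map_mem_rel_away {A B : Type u} [CommRing A] [CommRing B] (φ : A →+* B) (f : A) {b : B}
    (hb : b ∈ η.rel φ) :
    algebraMap B (Localization.Away (φ f)) b ∈ η.rel (Localization.awayMap φ f) :=
  map_mem_rel_of_square η φ (algebraMap A (Localization.Away f))
    (algebraMap B (Localization.Away (φ f))) (Localization.awayMap φ f)
    (awayMap_comp_algebraMap φ f) hb

theorem exists_mem_rel_of_away {A B : Type u} [CommRing A] [CommRing B] (φ : A →+* B) (f : A)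
    (hint : (η.q (Localization.Away f)).IsIntegral) (y : Localization.Away (φ f))
    (hy : y ∈ η.rel (Localization.awayMap φ f)) : ∃ x ∈ η.rel φ, ∃ n : ℕ,
      y * algebraMap B (Localization.Away (φ f)) (φ f) ^ n =
        algebraMap B (Localization.Away (φ f)) x := by
  obtain ⟨z, hz, hzy⟩ := (mem_rel η _ y).1 hy
  obtain ⟨x, hx, n, hxn⟩ := exists_mem_M_of_away η f hint z hz
  obtain ⟨m, b, hb⟩ := IsLocalization.Away.surj (φ f)
    (y * algebraMap B (Localization.Away (φ f)) (φ f) ^ n)
  have h1 : η.Nmap (algebraMap B (Localization.Away (φ f))) (η.t B b) =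
      η.Nmap (algebraMap B (Localization.Away (φ f))) (η.Nmap φ (η.t A f ^ m * x)) := by
    rw [Nmap_t, ← Nmap_comp, ← awayMap_comp_algebraMap, Nmap_comp, map_mul, map_pow, Nmap_t,
      ← hxn, map_mul, map_mul, map_pow, map_pow, hzy, Nmap_t, ← hb, map_mul, map_mul, map_pow,
      map_pow]
    have h2 : Localization.awayMap φ f (algebraMap A (Localization.Away f) f) =
        algebraMap B (Localization.Away (φ f)) (φ f) :=
      congrArg (fun h => h f) (awayMap_comp_algebraMap φ f)
    rw [h2]
    ring
  have h3 := t_mul_eq_of_Nmap_eq η (φ f) (Localization.Away (φ f)) _ _ h1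
  refine ⟨φ f * b, (mem_rel η φ _).2 ⟨η.t A f * (η.t A f ^ m * x),
    Subring.mul_mem _ (η.t_mem_M A f) (Subring.mul_mem _ (Subring.pow_mem _ (η.t_mem_M A f) m) hx),
    ?_⟩, n + m + 1, ?_⟩
  · rw [map_mul, Nmap_t, ← h3, map_mul]
  · rw [map_mul, ← hb]
    ring

/-- If `qRel φ` is bijective then so is `qRel` of the localized map. -/
theorem qRel_awayMap_bijective {A B : Type u} [CommRing A] [CommRing B] (φ : A →+* B) (f : A)
    (hint : (η.q (Localization.Away f)).IsIntegral) (h : Function.Bijective (η.qRel φ)) :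
    Function.Bijective (η.qRel (Localization.awayMap φ f)) := by
  rw [qRel_bijective_iff] at h ⊢
  obtain ⟨h1, h2⟩ := h
  refine ⟨?_, fun y hy => ?_⟩
  · rw [Localization.awayMap_injective_iff]
    intro a ha
    exact ⟨0, by rw [h1 (ha.trans (map_zero φ).symm), mul_zero]⟩
  · obtain ⟨x, hx, n, hn⟩ := exists_mem_rel_of_away η φ f hint y hy
    obtain ⟨a, rfl⟩ := h2 x hx
    refine ⟨IsLocalization.mk' (M := Submonoid.powers f) _ a ⟨f ^ n, n, rfl⟩, ?_⟩
    have hu : IsUnit (algebraMap B (Localization.Away (φ f)) (φ f) ^ n) :=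
      (IsLocalization.Away.algebraMap_isUnit (S := Localization.Away (φ f)) (φ f)).pow n
    apply hu.mul_right_cancel
    rw [hn]
    have h3 : ∀ c, Localization.awayMap φ f (algebraMap A (Localization.Away f) c) =
        algebraMap B (Localization.Away (φ f)) (φ c) := fun c =>
      congrArg (fun h => h c) (awayMap_comp_algebraMap φ f)
    rw [← h3 a, ← h3 f, ← map_pow, ← map_mul, ← map_pow]
    congr 1
    exact IsLocalization.mk'_spec (M := Submonoid.powers f) (Localization.Away f) a ⟨f ^ n, n, rfl⟩

/-- Local-to-global for bijectivity of `qRel`. -/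
theorem qRel_bijective_of_away {A B : Type u} [CommRing A] [CommRing B] (φ : A →+* B)
    (s : Finset A) (hspan : Ideal.span (s : Set A) = ⊤)
    (h : ∀ f ∈ s, Function.Bijective (η.qRel (Localization.awayMap φ f))) :
    Function.Bijective (η.qRel φ) := by
  rw [qRel_bijective_iff]
  have h3 : ∀ f c, Localization.awayMap φ f (algebraMap A (Localization.Away f) c) =
      algebraMap B (Localization.Away (φ f)) (φ c) := fun f c =>
    congrArg (fun h => h c) (awayMap_comp_algebraMap φ f)
  refine ⟨?_, fun b hb => ?_⟩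
  · rw [injective_iff_map_eq_zero]
    intro a ha
    -- the annihilator of `a`
    have h4 : ∀ f ∈ s, ∃ n : ℕ, f ^ n * a = 0 := by
      intro f hf
      have h5 := ((qRel_bijective_iff η _).1 (h f hf)).1
      have h6 : algebraMap A (Localization.Away f) a = 0 := by
        apply h5
        rw [h3, ha, map_zero, map_zero]
      obtain ⟨⟨_, n, rfl⟩, hn⟩ := (IsLocalization.map_eq_zero_iff (Submonoid.powers f) _ a).1 h6
      exact ⟨n, hn⟩
    choose! n hn using h4
    have h7 : Ideal.span ((fun x : A => x ^ (s.sup n)) '' (s : Set A)) = ⊤ :=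
      Ideal.span_pow_eq_top _ hspan _
    have h8 : Ideal.span ((fun x : A => x ^ (s.sup n)) '' (s : Set A)) ≤
        RingHom.ker (Ideal.Quotient.mk (⊥ : Ideal A)) ⊔ Ideal.span {x : A | x * a = 0} := by
      refine le_sup_of_le_right (Ideal.span_mono ?_)
      rintro _ ⟨x, hx, rfl⟩
      have : n x ≤ s.sup n := Finset.le_sup hx
      obtain ⟨k, hk⟩ := Nat.exists_eq_add_of_le this
      change x ^ (s.sup n) * a = 0
      rw [hk, pow_add, mul_comm (x ^ n x), mul_assoc, hn x hx, mul_zero]
    have h9 : (1 : A) ∈ Ideal.span {x : A | x * a = 0} := by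
      rw [h7, top_le_iff] at h8
      simp only [Ideal.mk_ker, bot_le, sup_of_le_right] at h8
      rw [h8]
      trivial
    have h10 : ∀ c ∈ Ideal.span {x : A | x * a = 0}, c * a = 0 := by
      intro c hc
      refine Submodule.span_induction (p := fun c _ => c * a = 0) (fun x hx => hx) (zero_mul a)
        (fun x y _ _ hx hy => by rw [add_mul, hx, hy, add_zero])
        (fun r x _ hx => by rw [smul_eq_mul, mul_assoc, hx, mul_zero]) hc
    rw [← one_mul a]
    exact h10 1 h9
  · have h4 : ∀ f ∈ s, ∃ n : ℕ, ∃ a, φ a = φ f ^ n * b := by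
      intro f hf
      obtain ⟨h5, h6⟩ := (qRel_bijective_iff η _).1 (h f hf)
      obtain ⟨c, hc⟩ := h6 _ (map_mem_rel_away η φ f hb)
      obtain ⟨n, a, ha⟩ := IsLocalization.Away.surj f c
      have h7 : algebraMap B (Localization.Away (φ f)) (φ f ^ n * b) =
          algebraMap B (Localization.Away (φ f)) (φ a) := by
        rw [← h3, ← ha, map_mul (Localization.awayMap φ f), hc,
          map_pow (Localization.awayMap φ f), h3, map_mul, map_pow]
        ring
      obtain ⟨⟨_, m, rfl⟩, hm⟩ := (IsLocalization.eq_iff_exists (Submonoid.powers (φ f)) _).1 h7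
      refine ⟨m + n, f ^ m * a, ?_⟩
      simp only at hm
      rw [map_mul, map_pow, ← hm]
      ring
    choose! n hn using h4
    have h7 : Ideal.span ((fun x : A => x ^ (s.sup n)) '' (s : Set A)) = ⊤ :=
      Ideal.span_pow_eq_top _ hspan _
    have h8 : (1 : A) ∈ Ideal.span ((fun x : A => x ^ (s.sup n)) '' (s : Set A)) := by
      rw [h7]; trivial
    have h10 : ∀ c ∈ Ideal.span ((fun x : A => x ^ (s.sup n)) '' (s : Set A)),
        ∃ a, φ a = φ c * b := by
      intro c hc
      refine Submodule.span_induction (p := fun c _ => ∃ a, φ a = φ c * b) ?_ ⟨0, by simp⟩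
        ?_ ?_ hc
      · rintro _ ⟨x, hx, rfl⟩
        obtain ⟨a, ha⟩ := hn x hx
        have : n x ≤ s.sup n := Finset.le_sup hx
        obtain ⟨k, hk⟩ := Nat.exists_eq_add_of_le this
        refine ⟨x ^ k * a, ?_⟩
        simp only
        rw [map_mul, ha, hk, pow_add, map_mul, map_pow, map_pow]
        ring
      · rintro x y _ _ ⟨a, ha⟩ ⟨a', ha'⟩
        exact ⟨a + a', by rw [map_add, ha, ha', map_add, add_mul]⟩
      · rintro r x _ ⟨a, ha⟩
        exact ⟨r * a, by rw [map_mul, ha, smul_eq_mul, map_mul, mul_assoc]⟩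
    obtain ⟨a, ha⟩ := h10 1 h8
    exact ⟨a, by rw [ha, map_one, one_mul]⟩

end K798.EtaRelAway
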