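import Groth.Agent.EtaPt.K798.Rel
import Groth.Agent.FlatA.UnivHomeo
import Groth.Agent.Grpsch.EtLoc
import Groth.Prelude.Def_HTop2

/-! Universal homeomorphisms with trivial residue field extensions and `N_η`, `η` the identity. -/

set_option autoImplicit false
universe u
open CategoryTheory AlgebraicGeometry
open EtaPt K797.EtaBase K797.EtaNbij K797.EtaFin K798.EtaRel

namespace K798.EtaSN

variable {A C : Type u} [CommRing A] [CommRing C]

theorem bijective_of_residueFieldMap {A B : CommRingCat.{u}} (φ : A ⟶ B) (P : Spec B)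
    (I : Ideal A) [I.IsPrime] (hI : I = P.asIdeal.comap φ.hom)
    (h : Function.Bijective ((Spec.map φ).residueFieldMap P)) :
    Function.Bijective (Ideal.ResidueField.map I P.asIdeal φ.hom hI) := by
  subst hI
  have h1 : IsIso ((Spec.map φ).residueFieldMap P) :=
    (Groth.Agent.Grpsch.EtLoc.isIso_iff_bijective _).mpr h
  have h2 := Groth.Agent.Grpsch.EtLoc.residueFieldMap_SpecMap φ P
  have h3 : IsIso ((Scheme.Spec.residueFieldIso A (Spec.map φ P)).hom ≫ CommRingCat.ofHom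
      (Ideal.ResidueField.map (Spec.map φ P).asIdeal P.asIdeal φ.hom rfl)) := by
    rw [← h2]; infer_instance
  have h4 : IsIso (CommRingCat.ofHom
      (Ideal.ResidueField.map (Spec.map φ P).asIdeal P.asIdeal φ.hom rfl)) :=
    IsIso.of_isIso_comp_left (Scheme.Spec.residueFieldIso A (Spec.map φ P)).hom _
  exact (Groth.Agent.Grpsch.EtLoc.isIso_iff_bijective _).mp h4

theorem residueFieldsIso_iff (ψ : A →+* C) :
    HTop.ResidueFieldsIso (Spec.map (CommRingCat.ofHom ψ)) ↔
      ∀ Q : PrimeSpectrum C, Function.Bijective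
        (Ideal.ResidueField.map (PrimeSpectrum.comap ψ Q).asIdeal Q.asIdeal ψ rfl) := by
  constructor
  · intro h Q
    have h1 : IsIso ((Spec.map (CommRingCat.ofHom ψ)).residueFieldMap Q) := h Q
    exact bijective_of_residueFieldMap (CommRingCat.ofHom ψ) Q _ rfl
      ((Groth.Agent.Grpsch.EtLoc.isIso_iff_bijective _).mp h1)
  · intro h Q
    exact (Groth.Agent.Grpsch.EtLoc.isIso_iff_bijective _).mpr
      (Groth.Agent.Grpsch.EtLoc.residueFieldMap_SpecMap_bijective (CommRingCat.ofHom ψ) Q _ rfl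
        (h Q))

theorem isUnivHomeo_of_bijective_Nmap (η : FieldEndo.{u}) (ψ : A →+* C) (h1 : ψ.IsIntegral)
    (h2 : Function.Bijective (η.Nmap ψ)) :
    FlatMor.IsUnivHomeo (Spec.map (CommRingCat.ofHom ψ)) := by
  rw [Groth.Agent.FlatA.UnivHomeo.isUnivHomeo_iff]
  refine ⟨?_, ?_, ⟨?_⟩⟩
  · rw [IsIntegralHom.SpecMap_iff]
    exact h1
  · refine ((tfae_universallyInjective (Spec.map (CommRingCat.ofHom ψ))).out 0 1).2 ?_
    intro K _ g₁ g₂ h12
    obtain ⟨g₁, rfl⟩ := Spec.map_surjective g₁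
    obtain ⟨g₂, rfl⟩ := Spec.map_surjective g₂
    congr 1
    dsimp only at h12
    rw [← Spec.map_comp, ← Spec.map_comp] at h12
    have h3 := Spec.map_injective h12
    have h4 := hom_ext_of_bijective_Nmap η ψ h2 g₁.hom g₂.hom (congrArg CommRingCat.Hom.hom h3)
    exact CommRingCat.hom_ext h4
  · exact ((bijective_Nmap_iff η ψ).1 h2).1.2

theorem isSN_iff (ψ : A →+* C) :
    (FlatMor.IsUnivHomeo (Spec.map (CommRingCat.ofHom ψ)) ∧
      HTop.ResidueFieldsIso (Spec.map (CommRingCat.ofHom ψ))) ↔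
    (ψ.IsIntegral ∧ Function.Bijective (FieldEndo.ident.{u}.Nmap ψ)) := by
  constructor
  · rintro ⟨h1, h2⟩
    have h3 := Groth.Agent.FlatA.UnivHomeo.isIntegralHom_of_isUnivHomeo h1
    rw [IsIntegralHom.SpecMap_iff] at h3
    have h4 : IsHomeomorph (Spec.map (CommRingCat.ofHom ψ)) :=
      Groth.Agent.FlatA.UnivHomeo.isHomeomorph_of_isUnivHomeo h1
    refine ⟨h3, (bijective_Nmap_iff _ ψ).2 ⟨h4.bijective, fun q => ?_⟩⟩
    exact (residueFieldsIso_iff ψ).1 h2 q
  · rintro ⟨h1, h2⟩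
    refine ⟨isUnivHomeo_of_bijective_Nmap _ ψ h1 h2, ?_⟩
    rw [residueFieldsIso_iff]
    exact ((bijective_Nmap_iff _ ψ).1 h2).2

end K798.EtaSN
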