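import Groth.Agent.EtaPt.K798.Loc
import Mathlib.RingTheory.Valuation.ValuationRing
import Mathlib.RingTheory.Localization.Integral

/-! Valuation rings in `V_η` and localizations. -/

set_option autoImplicit false
universe u

namespace K798.EtaVal

open EtaPt K798.EtaBase K798.EtaLoc

variable (η : EtaPt.FieldEndo.{u})

theorem bijective_eta_of_ringEquiv {K L : Type u} [Field K] [Field L] (e : K ≃+* L)
    (h : Function.Bijective (η.eta K)) : Function.Bijective (η.eta L) := by
  have h1 : (η.eta L : L → η.obj L) = (η.map (e : K →+* L)) ∘ (η.eta K) ∘ e.symm := by
    funext x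
    have := congrArg (fun g => g (e.symm x)) (η.eta_natural (e : K →+* L))
    simp only [RingHom.comp_apply] at this
    simp only [Function.comp_apply]
    rw [this]
    simp
  rw [h1]
  exact (bijective_map_of_bijective η _ e.bijective).comp (h.comp e.symm.bijective)

/-- `η.InV R` may be checked at any fraction field. -/
theorem inV_iff (R : Type u) [CommRing R] [IsDomain R] (K : Type u) [Field K] [Algebra R K]
    [IsFractionRing R K] : η.InV R ↔ Function.Bijective (η.eta K) :=
  ⟨fun h => bijective_eta_of_ringEquiv η (FractionRing.algEquiv R K).toRingEquiv h,
    fun h => bijective_eta_of_ringEquiv η (FractionRing.algEquiv R K).symm.toRingEquiv h⟩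

theorem valuationRing_of_isLocalization {R : Type u} [CommRing R] [IsDomain R] [ValuationRing R]
    (M : Submonoid R) (R' : Type u) [CommRing R'] [IsDomain R'] [Algebra R R']
    [IsLocalization M R'] : ValuationRing R' := by
  refine { cond' := fun a b => ?_ }
  obtain ⟨⟨a', s⟩, hs⟩ := IsLocalization.surj M a
  obtain ⟨⟨b', t⟩, ht⟩ := IsLocalization.surj M b
  simp only at hs ht
  have hsu : IsUnit (algebraMap R R' s) := IsLocalization.map_units R' s
  have htu : IsUnit (algebraMap R R' t) := IsLocalization.map_units R' t
  obtain ⟨c, hc⟩ := ValuationRing.cond (a' * t) (b' * s)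
  refine ⟨algebraMap R R' c, ?_⟩
  rcases hc with hc | hc
  · left
    apply (hsu.mul htu).mul_right_cancel
    have := congrArg (algebraMap R R') hc
    simp only [map_mul] at this
    rw [← hs, ← ht] at this
    linear_combination this
  · right
    apply (hsu.mul htu).mul_right_cancel
    have := congrArg (algebraMap R R') hc
    simp only [map_mul] at this
    rw [← hs, ← ht] at this
    linear_combination this

/-- A localization of a valuation ring in `V_η` at a nonzero element. -/
theorem isDomain_away {R : Type u} [CommRing R] [IsDomain R] (f : R) (hf : f ≠ 0) :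
    IsDomain (Localization.Away f) :=
  IsLocalization.isDomain_localization (powers_le_nonZeroDivisors_of_noZeroDivisors hf)

theorem inV_away {R : Type u} [CommRing R] [IsDomain R] (f : R) (hf : f ≠ 0)
    [IsDomain (Localization.Away f)] (hR : η.InV R) : η.InV (Localization.Away f) := by
  have hle : Submonoid.powers f ≤ nonZeroDivisors R :=
    powers_le_nonZeroDivisors_of_noZeroDivisors hf
  let _ : Algebra (Localization.Away f) (FractionRing R) :=
    (IsLocalization.lift (M := Submonoid.powers f) (S := Localization.Away f)
      (g := algebraMap R (FractionRing R)) (fun y => IsLocalization.map_units (FractionRing R)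
        (⟨y.1, hle y.2⟩ : nonZeroDivisors R))).toAlgebra
  have : IsScalarTower R (Localization.Away f) (FractionRing R) :=
    IsScalarTower.of_algebraMap_eq' (by
      ext x
      exact (IsLocalization.lift_eq (M := Submonoid.powers f) (S := Localization.Away f) _ x).symm)
  have : IsFractionRing (Localization.Away f) (FractionRing R) :=
    IsFractionRing.isFractionRing_of_isDomain_of_isLocalization (Submonoid.powers f) _ _
  exact (inV_iff η (Localization.Away f) (FractionRing R)).2 hR

end K798.EtaVal
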